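import Groth.Agent.H15Site.PBC.Cmap
import Groth.Agent.H15Site.PullCoh

/-!
# Sections of an inverse image as families of germs
-/

set_option autoImplicit false
set_option linter.style.haveILetI false
set_option linter.unusedSectionVars false
set_option backward.isDefEq.respectTransparency false

universe u

open CategoryTheory CategoryTheory.Limits Opposite TopologicalSpace

namespace Groth.Agent.H15Site.Etale

open Groth.Agent.H15Site.DescTop Groth.Agent.H15Site.PBC

attribute [local instance 10000] SiteInst.hasSheafifySite SiteInst.hasWeakSheafifySite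
  SiteInst.hasExtSite SiteInst.enoughInjSite

variable {Z S : TopCat.{u}} (t : Z ⟶ S) (G : CohTop.Ab S)

/-- A family of germs given locally on `W` by sections on `S`. -/
def IsFam (W : Opens Z) (b : ∀ z : Z, z ∈ W → CohTop.stalk G (t z)) : Prop :=
  ∀ z (_ : z ∈ W), ∃ (V : Opens S) (W' : Opens Z) (_ : z ∈ W') (s : G.obj.obj (op V)),
    ∀ (y : Z) (hy : y ∈ W), y ∈ W' → ∃ hty : t y ∈ V, gm G (t y) hty s = b y hy

/-- The germs of a section of the inverse image. -/
noncomputable def secFam (W : Opens Z) (u : ((CohTop.pull t).obj G).obj.obj (op W)) (z : Z) (hz : z ∈ W) :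
    CohTop.stalk G (t z) :=
  haveI := isIso_cmap' t G z
  (inv (cmap G t z)).hom (gm ((CohTop.pull t).obj G) z hz u)

lemma secFam_eq_iff (W : Opens Z) (u : ((CohTop.pull t).obj G).obj.obj (op W)) (z : Z) (hz : z ∈ W)
    (c : CohTop.stalk G (t z)) :
    secFam t G W u z hz = c ↔ gm ((CohTop.pull t).obj G) z hz u = (cmap G t z).hom c := by
  haveI := isIso_cmap' t G z
  constructor
  · rintro rfl
    exact (ConcreteCategory.congr_hom (IsIso.inv_hom_id (cmap G t z)) _).symm
  · intro h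
    rw [secFam, h]
    exact ConcreteCategory.congr_hom (IsIso.hom_inv_id (cmap G t z)) _

lemma secFam_un (W : Opens Z) {V : Opens S} (h : W ≤ (Opens.map t).obj V) (s : G.obj.obj (op V))
    (z : Z) (hz : z ∈ W) :
    secFam t G W (((CohTop.pull t).obj G).obj.map (homOfLE h).op ((un G t).hom.app (op V) s)) z hz =
      gm G (t z) (h hz) s :=
  (secFam_eq_iff t G W _ z hz _).2 ((gm_res _ h z hz _).trans (cmap_gm G t z (h hz) s).symm)

theorem isFam_secFam (W : Opens Z) (u : ((CohTop.pull t).obj G).obj.obj (op W)) :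
    IsFam t G W (secFam t G W u) := by
  intro z hz
  obtain ⟨V, hV, s, hs⟩ := TopCat.Presheaf.exists_germ_eq G.obj (secFam t G W u z hz)
  have hs' := (secFam_eq_iff t G W u z hz (gm G (t z) hV s)).1 hs.symm
  rw [cmap_gm] at hs'
  obtain ⟨W', hzW', iU, iV, e⟩ := TopCat.Presheaf.germ_eq ((CohTop.pull t).obj G).obj
    (U := W) (V := (Opens.map t).obj V) z hz hV u ((un G t).hom.app (op V) s) hs'
  refine ⟨V, W', hzW', s, fun y hy hy' => ⟨iV.le hy', ((secFam_eq_iff t G W u y hy _).2 ?_).symm⟩⟩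
  rw [cmap_gm]
  refine (gm_res _ iU.le y hy' u).symm.trans ((congrArg _ e).trans ?_)
  exact gm_res _ iV.le y hy' _

theorem exists_secFam_eq (W : Opens Z) (b : ∀ z : Z, z ∈ W → CohTop.stalk G (t z))
    (hb : IsFam t G W b) : ∃ u, secFam t G W u = b := by
  choose V W' hzW' s hs using hb
  let U : W → Opens Z := fun z => (W' z.1 z.2 ⊓ W) ⊓ (Opens.map t).obj (V z.1 z.2)
  let sf : ∀ z : W, ((CohTop.pull t).obj G).obj.obj (op (U z)) := fun z =>
    ((CohTop.pull t).obj G).obj.map (homOfLE (inf_le_right : U z ≤ (Opens.map t).obj (V z.1 z.2))).op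
      ((un G t).hom.app (op (V z.1 z.2)) (s z.1 z.2))
  have key : ∀ (z : W) (y : Z) (hy : y ∈ U z),
      gm ((CohTop.pull t).obj G) y hy (sf z) = (cmap G t y).hom (b y hy.1.2) := by
    intro z y hy
    obtain ⟨hty, e⟩ := hs z.1 z.2 y hy.1.2 hy.1.1
    rw [← e, cmap_gm]
    exact gm_res _ _ y hy _
  have hcomp : TopCat.Presheaf.IsCompatible ((CohTop.pull t).obj G).obj U sf := fun i j => by
    refine TopCat.Presheaf.section_ext ((CohTop.pull t).obj G : TopCat.Sheaf AddCommGrpCat.{u} Z) _ _ _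
      fun y hy => ?_
    refine (TopCat.Presheaf.germ_res_apply ((CohTop.pull t).obj G).obj _ y hy (sf i)).trans
      (Eq.trans ?_ (TopCat.Presheaf.germ_res_apply ((CohTop.pull t).obj G).obj _ y hy (sf j)).symm)
    exact (key i y hy.1).trans (key j y hy.2).symm
  obtain ⟨u, hu, -⟩ := TopCat.Sheaf.existsUnique_gluing' (F := ((CohTop.pull t).obj G : TopCat.Sheaf AddCommGrpCat.{u} Z))
    U W (fun z => homOfLE (fun y hy => hy.1.2)) (fun y hy => by
      refine Opens.mem_iSup.2 ⟨⟨y, hy⟩, ⟨hzW' y hy, hy⟩, ?_⟩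
      exact (hs y hy y hy (hzW' y hy)).1) sf hcomp
  refine ⟨u, funext fun y => funext fun hy => (secFam_eq_iff t G W u y hy _).2 ?_⟩
  have hyU : y ∈ U ⟨y, hy⟩ := ⟨⟨hzW' y hy, hy⟩, (hs y hy y hy (hzW' y hy)).1⟩
  exact (gm_res _ _ y hyU u).symm.trans ((congrArg _ (hu ⟨y, hy⟩)).trans (key ⟨y, hy⟩ y hyU))

theorem secFam_injective (W : Opens Z) : Function.Injective (secFam t G W) := by
  intro u v h
  refine TopCat.Presheaf.section_ext ((CohTop.pull t).obj G : TopCat.Sheaf AddCommGrpCat.{u} Z) W u v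
    fun y hy => ?_
  exact ((secFam_eq_iff t G W u y hy _).1 rfl).trans
    ((secFam_eq_iff t G W v y hy _).1 (congrFun (congrFun h y) hy).symm).symm

lemma secFam_add (W : Opens Z) (u v : ((CohTop.pull t).obj G).obj.obj (op W)) (z : Z) (hz : z ∈ W) :
    secFam t G W (u + v) z hz = secFam t G W u z hz + secFam t G W v z hz := by
  simp [secFam, gm]

lemma secFam_zero (W : Opens Z) (z : Z) (hz : z ∈ W) :
    secFam t G W 0 z hz = 0 := by
  simp [secFam, gm]

/-- The map of stalks. -/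
noncomputable abbrev smap {G G' : CohTop.Ab S} (φ : G ⟶ G') (x : S) :
    CohTop.stalk G x →+ CohTop.stalk G' x := ((stk x).map φ).hom

lemma secFam_nat {G G' : CohTop.Ab S} (φ : G ⟶ G') (W : Opens Z)
    (u : ((CohTop.pull t).obj G).obj.obj (op W)) (z : Z) (hz : z ∈ W) :
    secFam t G' W (((CohTop.pull t).map φ).hom.app (op W) u) z hz =
      smap φ (t z) (secFam t G W u z hz) := by
  obtain ⟨V, hV, s, hs⟩ := TopCat.Presheaf.exists_germ_eq G.obj (secFam t G W u z hz)
  have hu := (secFam_eq_iff t G W u z hz (gm G (t z) hV s)).1 hs.symm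
  refine (secFam_eq_iff t G' W _ z hz _).2 ?_
  rw [← hs]
  refine (TopCat.Presheaf.stalkFunctor_map_germ_apply W z hz ((CohTop.pull t).map φ).hom u).symm.trans ?_
  refine (congrArg ((stk z).map ((CohTop.pull t).map φ)).hom hu).trans ?_
  refine Eq.trans ?_ (congrArg (cmap G' t z).hom
    (TopCat.Presheaf.stalkFunctor_map_germ_apply V (t z) hV φ.hom s).symm)
  rw [cmap_gm]
  refine Eq.trans ?_ (cmap_gm G' t z hV (φ.hom.app (op V) s)).symm
  refine (TopCat.Presheaf.stalkFunctor_map_germ_apply ((Opens.map t).obj V) z hV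
    ((CohTop.pull t).map φ).hom _).trans (congrArg _ ?_)
  exact (ConcreteCategory.congr_hom (congrArg (fun ψ => ψ.hom.app (op V))
    ((TopCat.Sheaf.pullbackPushforwardAdjunction AddCommGrpCat.{u} t).unit.naturality φ)) s).symm

/-- Families of germs on all of `Z`. -/
def gFam : AddSubgroup (∀ z : Z, CohTop.stalk G (t z)) where
  carrier := {b | IsFam t G ⊤ (fun z _ => b z)}
  zero_mem' := fun z _ => ⟨⊤, ⊤, trivial, 0, fun y _ _ => ⟨trivial, map_zero _⟩⟩
  add_mem' := by
    intro b c hb hc z hz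
    obtain ⟨V, W, hW, s, hs⟩ := hb z hz
    obtain ⟨V', W', hW', s', hs'⟩ := hc z hz
    refine ⟨V ⊓ V', W ⊓ W', ⟨hW, hW'⟩, G.obj.map (homOfLE inf_le_left).op s +
      G.obj.map (homOfLE inf_le_right).op s', fun y hy hyW => ?_⟩
    obtain ⟨h1, e1⟩ := hs y hy hyW.1
    obtain ⟨h2, e2⟩ := hs' y hy hyW.2
    refine ⟨⟨h1, h2⟩, (map_add _ _ _).trans ?_⟩
    exact congrArg₂ (· + ·) ((gm_res G inf_le_left (t y) ⟨h1, h2⟩ s).trans e1)
      ((gm_res G inf_le_right (t y) ⟨h1, h2⟩ s').trans e2)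
  neg_mem' := by
    intro b hb z hz
    obtain ⟨V, W, hW, s, hs⟩ := hb z hz
    refine ⟨V, W, hW, -s, fun y hy hyW => ?_⟩
    obtain ⟨h1, e1⟩ := hs y hy hyW
    exact ⟨h1, (map_neg _ _).trans (congrArg Neg.neg e1)⟩

/-- Functoriality in the sheaf. -/
noncomputable def gFamMap {G G' : CohTop.Ab S} (φ : G ⟶ G') : gFam t G →+ gFam t G' where
  toFun b := ⟨fun z => smap φ (t z) (b.1 z), fun z hz => by
    obtain ⟨V, W, hW, s, hs⟩ := b.2 z hz
    refine ⟨V, W, hW, φ.hom.app (op V) s, fun y hy hyW => ?_⟩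
    obtain ⟨h1, e1⟩ := hs y hy hyW
    refine ⟨h1, ?_⟩
    exact (TopCat.Presheaf.stalkFunctor_map_germ_apply V (t y) h1 φ.hom s).symm.trans
      (congrArg (smap φ (t y)) e1)⟩
  map_zero' := Subtype.ext (funext fun _ => map_zero _)
  map_add' b c := Subtype.ext (funext fun _ => map_add _ _ _)

/-- Global sections of the inverse image as families of germs. -/
noncomputable def famEquiv : ((CohTop.pull t).obj G).obj.obj (op ⊤) ≃+ gFam t G :=
  AddEquiv.ofBijective
    ({ toFun := fun u => ⟨fun z => secFam t G ⊤ u z trivial, isFam_secFam t G ⊤ u⟩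
       map_zero' := Subtype.ext (funext fun z => secFam_zero t G ⊤ z trivial)
       map_add' := fun u v => Subtype.ext (funext fun z => secFam_add t G ⊤ u v z trivial) } :
      ((CohTop.pull t).obj G).obj.obj (op ⊤) →+ gFam t G)
    ⟨fun u v h => secFam_injective t G ⊤ (funext fun z => funext fun _ => congrFun (congrArg Subtype.val h) z),
      fun b => by
        obtain ⟨u, hu⟩ := exists_secFam_eq t G ⊤ _ b.2
        exact ⟨u, Subtype.ext (funext fun z => congrFun (congrFun hu z) trivial)⟩⟩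

lemma famEquiv_nat {G G' : CohTop.Ab S} (φ : G ⟶ G') (u : ((CohTop.pull t).obj G).obj.obj (op ⊤)) :
    famEquiv t G' (((CohTop.pull t).map φ).hom.app (op ⊤) u) = gFamMap t φ (famEquiv t G u) :=
  Subtype.ext (funext fun z => secFam_nat t φ ⊤ u z trivial)

end Groth.Agent.H15Site.Etale
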