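import Groth.Agent.H13Desc.BigRes
import Groth.Agent.S6185
import Groth.Agent.S6687

/-!
# `T ↦ H^n(T_et, F|_T)` as a functor of the scheme `T` over `S`

Through the big étale site: `Φ U` represents sections over `U`, and `Ext^n(Φ U, π⁻¹F)` computes the
cohomology of the inverse image of `F` on `U` (`nonempty_A_iso`, `nonempty_A_iso_base`).
-/

universe u

open CategoryTheory CategoryTheory.Limits AlgebraicGeometry Opposite

set_option linter.style.haveILetI false
set_option backward.isDefEq.respectTransparency false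

namespace Groth.Agent.H15Site.Etale.BigFun

/-- The big étale abelian sheaves. -/
abbrev BAb (S : Scheme.{u}) : Type (u + 2) := BigSite.Ab Scheme.etalePrecoverage S

/-- The constant sheaf `ℤ` of the big étale site. -/
noncomputable abbrev ZB (T : Scheme.{u}) : BAb T :=
  (constantSheaf (QuotSh.J Scheme.etalePrecoverage T) AddCommGrpCat.{u + 1}).obj
    (AddCommGrpCat.of (ULift.{u + 1} ℤ))

/-- Sections over the terminal object. -/
noncomputable def homZEquiv {T : Scheme.{u}} (G : BAb T) :
    (ZB T ⟶ G) ≃ G.obj.obj (op (Over.mk (𝟙 T))) :=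
  ((constantSheafAdj (QuotSh.J Scheme.etalePrecoverage T) AddCommGrpCat.{u + 1}
    (Over.mkIdTerminal : IsTerminal (Over.mk (𝟙 T)))).homEquiv _ G).trans
    (AddCommGrpCat.uliftZMultiplesAddEquiv _).toEquiv

lemma homZEquiv_naturality {T : Scheme.{u}} {G G' : BAb T} (ψ : ZB T ⟶ G) (φ : G ⟶ G') :
    homZEquiv G' (ψ ≫ φ) = (φ.hom.app _).hom (homZEquiv G ψ) := by
  simp only [homZEquiv, Equiv.trans_apply]
  erw [Adjunction.homEquiv_naturality_right]
  rfl

variable {S : Scheme.{u}}

/-- The representing sheaf of the sections over `U`. -/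
noncomputable def Φ (U : Over S) : BAb S :=
  (BigSite.shriekAb Scheme.etalePrecoverage U.hom).obj (ZB U.left)

/-- The comparison of objects. -/
noncomputable def baseIso (U : Over S) : (Over.map U.hom).obj (Over.mk (𝟙 U.left)) ≅ U :=
  Over.isoMk (Iso.refl _) (by simp)

/-- Maps out of `Φ U` are sections over `U`. -/
noncomputable def e (U : Over S) (G : BAb S) : (Φ U ⟶ G) ≃ G.obj.obj (op U) :=
  ((BigSite.shriekAbAdj Scheme.etalePrecoverage U.hom).homEquiv _ G).trans
    ((homZEquiv ((BigSite.pullBig Scheme.etalePrecoverage U.hom AddCommGrpCat.{u + 1}).obj G)).trans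
      (G.obj.mapIso (baseIso U).symm.op).addCommGroupIsoToAddEquiv.toEquiv)

lemma e_naturality (U : Over S) {G G' : BAb S} (ψ : Φ U ⟶ G) (φ : G ⟶ G') :
    e U G' (ψ ≫ φ) = (φ.hom.app (op U)).hom (e U G ψ) := by
  simp only [e, Equiv.trans_apply]
  erw [Adjunction.homEquiv_naturality_right, homZEquiv_naturality]
  exact (ConcreteCategory.congr_hom (φ.hom.naturality (baseIso U).inv.op) _).symm

/-- `Φ` as a functor. -/
noncomputable def Φf (S : Scheme.{u}) : Over S ⥤ BAb S where
  obj := Φ
  map {U V} h := (e U (Φ V)).symm (((Φ V).obj.map h.op).hom (e V (Φ V) (𝟙 _)))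
  map_id U := by simp
  map_comp {U V W} h k := by
    apply (e U (Φ W)).injective
    rw [Equiv.apply_symm_apply, e_naturality, Equiv.apply_symm_apply]
    refine Eq.trans ?_ (ConcreteCategory.congr_hom
      (((e V (Φ W)).symm (((Φ W).obj.map k.op).hom (e W (Φ W) (𝟙 _)))).hom.naturality h.op) _).symm
    rw [ConcreteCategory.comp_apply]
    erw [← e_naturality]
    rw [Category.id_comp, Equiv.apply_symm_apply, op_comp, Functor.map_comp]
    rfl

variable (F : EtCoh.Ab S)

/-- `π⁻¹ F`. -/
noncomputable abbrev big : BAb S := (BigSite.piEtPull Scheme.etalePrecoverage S).obj F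

/-- `U ↦ H^n(U, F|_U)`. -/
noncomputable def A (n : ℕ) : (Over S)ᵒᵖ ⥤ AddCommGrpCat.{u + 1} :=
  ((Φf S).op ⋙ Abelian.extFunctor n).flip.obj (big F)

theorem nonempty_A_iso (n : ℕ) (U : Over S) :
    Nonempty ((A F n).obj (op U) ≅
      AddCommGrpCat.of (EtCoh.H U.left ((EtCoh.pull U.hom).obj F) n)) := by
  let G := BigSite.pullBig Scheme.etalePrecoverage U.hom AddCommGrpCat.{u + 1}
  obtain ⟨h1, h2⟩ := Groth.Agent.H13Desc.BigExact.pullBig_exact Scheme.etalePrecoverage U.hom
  let ε : ZB U.left ⟶ G.obj (Φ U) :=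
    (BigSite.shriekAbAdj Scheme.etalePrecoverage U.hom).unit.app (ZB U.left)
  have hb : ∀ H : BAb S, Function.Bijective fun φ : Φ U ⟶ H => ε ≫ G.map φ := fun H => by
    have : (fun φ : Φ U ⟶ H => ε ≫ G.map φ) =
        (BigSite.shriekAbAdj Scheme.etalePrecoverage U.hom).homEquiv (ZB U.left) H := by
      funext φ
      exact ((BigSite.shriekAbAdj Scheme.etalePrecoverage U.hom).homEquiv_unit _ _ _).symm
    rw [this]
    exact Equiv.bijective _
  let e₁ := Groth.Agent.H10Coh.extMapEquiv G ε hb (fun J _ m => by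
    haveI := Groth.Agent.H13Desc.BigExact.injective_pullBig Scheme.etalePrecoverage U.hom J
    exact ⟨fun a b => by
      rw [Abelian.Ext.eq_zero_of_injective a, Abelian.Ext.eq_zero_of_injective b]⟩) n (big F)
  obtain ⟨e₂⟩ := Groth.Agent.S6687.result U.hom n F
  exact ⟨((e₁.trans e₂).toAddCommGrpIso :
    AddCommGrpCat.of (Abelian.Ext (Φ U) (big F) n) ≅ _)⟩

/-- The representing sheaf of the terminal object is the constant sheaf. -/
noncomputable def Φbase : Φ (Over.mk (𝟙 S)) ≅ ZB S where
  hom := (e (Over.mk (𝟙 S)) (ZB S)).symm (homZEquiv (ZB S) (𝟙 _))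
  inv := (homZEquiv (Φ (Over.mk (𝟙 S)))).symm (e (Over.mk (𝟙 S)) _ (𝟙 _))
  hom_inv_id := by
    apply (e (Over.mk (𝟙 S)) _).injective
    rw [e_naturality, Equiv.apply_symm_apply]
    erw [← homZEquiv_naturality, Category.id_comp, Equiv.apply_symm_apply]
  inv_hom_id := by
    apply (homZEquiv _).injective
    rw [homZEquiv_naturality, Equiv.apply_symm_apply]
    erw [← e_naturality, Category.id_comp, Equiv.apply_symm_apply]

theorem nonempty_A_iso_base (n : ℕ) :
    Nonempty ((A F n).obj (op (Over.mk (𝟙 S))) ≅ AddCommGrpCat.of (EtCoh.H S F n)) := by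
  obtain ⟨e₂⟩ := Groth.Agent.S6185.result S (big F) n
  haveI := (Groth.Agent.S6184.result S).2 F
  exact ⟨(((Abelian.extFunctor n).mapIso Φbase.op).app (big F)).symm ≪≫
    (e₂.symm.toAddCommGrpIso : AddCommGrpCat.of (BigSite.H Scheme.etalePrecoverage S (big F) n) ≅ _) ≪≫
    ((EtCoh.HF S n).mapIso
      (asIso ((BigSite.piEtAdj Scheme.etalePrecoverage S).unit.app F))).symm⟩

end Groth.Agent.H15Site.Etale.BigFun
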