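import Groth.Agent.H15Site.Etale.Local
import Groth.Agent.H15Site.DescTop.CechFin

/-!
# The Čech complex of germ families along a surjective local homeomorphism
-/

set_option autoImplicit false
set_option linter.style.haveILetI false
set_option linter.unusedSectionVars false
set_option backward.isDefEq.respectTransparency false

universe u

open CategoryTheory CategoryTheory.Limits Opposite TopologicalSpace

namespace Groth.Agent.H15Site.Etale

open Groth.Agent.H15Site.DescTop Groth.Agent.H15Site.PBC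

attribute [local instance 10000] SiteInst.hasSheafifySite SiteInst.hasWeakSheafifySite
  SiteInst.hasExtSite SiteInst.enoughInjSite

variable {X S : TopCat.{u}} (f : X ⟶ S)

/-- The `k`-fold fibre product, remembering the base point. -/
abbrev Zk (k : ℕ) : TopCat.{u} := TopCat.of {z : S × (Fin k → X) // ∀ i, f (z.2 i) = z.1}

/-- The structure map. -/
def tk (k : ℕ) : Zk f k ⟶ S :=
  TopCat.ofHom ⟨fun z => z.1.1, continuous_fst.comp continuous_subtype_val⟩

/-- A fibre. -/
abbrev Fb (s : S) : Type u := {x : X // f x = s}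

/-- A point of the fibre product from fibre coordinates. -/
def mk {k : ℕ} (s : S) (x : Fin k → Fb f s) : Zk f k := ⟨(s, fun i => (x i).1), fun i => (x i).2⟩

/-- The coordinates. -/
def vals {k : ℕ} (z : Zk f k) : Fin k → Fb f z.1.1 := fun i => ⟨z.1.2 i, z.2 i⟩

variable (G : CohTop.Ab S)

/-- Functions on the fibre product. -/
abbrev Raw (k : ℕ) : Type u := ∀ z : Zk f k, CohTop.stalk G (tk f k z)

/-- The part of a function over a point. -/
def part {k : ℕ} (b : Raw f G k) (s : S) : (Fin k → Fb f s) → CohTop.stalk G s := fun x => b (mk f s x)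

/-- The Čech differential. -/
noncomputable def rawD {k : ℕ} (b : Raw f G k) : Raw f G (k + 1) :=
  fun z => CechFin.D (part f G b z.1.1) (vals f z)

lemma rawD_add {k : ℕ} (b c : Raw f G k) : rawD f G (b + c) = rawD f G b + rawD f G c := by
  funext z
  simp [rawD, CechFin.D, part, Finset.sum_add_distrib, smul_add]

lemma rawD_rawD {k : ℕ} (b : Raw f G k) : rawD f G (rawD f G b) = 0 :=
  funext fun z => congrFun (CechFin.D_D (part f G b z.1.1)) (vals f z)

lemma rawD_smap {G' : CohTop.Ab S} (φ : G ⟶ G') {k : ℕ} (b : Raw f G k) :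
    rawD f G' (fun z => smap φ (tk f k z) (b z)) = fun z => smap φ (tk f (k + 1) z) (rawD f G b z) := by
  funext z
  simp only [rawD, CechFin.D, part]
  rw [map_sum]
  exact Finset.sum_congr rfl fun i _ => (map_zsmul _ _ _).symm

/-- The face maps. -/
def face (k : ℕ) (i : Fin (k + 1)) : Zk f (k + 1) ⟶ Zk f k :=
  TopCat.ofHom ⟨fun z => ⟨(z.1.1, z.1.2 ∘ i.succAbove), fun j => z.2 _⟩, by fun_prop⟩

/-- Precomposition with a face. -/
def rawFace {k : ℕ} (i : Fin (k + 1)) (b : Raw f G k) : Raw f G (k + 1) := fun z => b (face f k i z)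

lemma rawD_eq {k : ℕ} (b : Raw f G k) :
    rawD f G b = ∑ i : Fin (k + 1), ((-1 : ℤ) ^ (i : ℕ)) • rawFace f G i b := by
  funext z
  exact (Finset.sum_apply z Finset.univ fun i : Fin (k + 1) => ((-1 : ℤ) ^ (i : ℕ)) • rawFace f G i b).symm

theorem rawD_mem {k : ℕ} (b : gFam (tk f k) G) : rawD f G b.1 ∈ gFam (tk f (k + 1)) G := by
  rw [rawD_eq]
  refine AddSubgroup.sum_mem _ fun i _ => AddSubgroup.zsmul_mem _ ?_ _
  intro z hz
  obtain ⟨V, W, hW, s, hs⟩ := b.2 (face f k i z) trivial
  exact ⟨V, (Opens.map (face f k i)).obj W, hW, s, fun y _ hy => hs (face f k i y) trivial hy⟩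

/-- The differential on germ families. -/
noncomputable def famD (k : ℕ) : gFam (tk f k) G →+ gFam (tk f (k + 1)) G :=
  AddMonoidHom.mk' (fun b => ⟨rawD f G b.1, rawD_mem f G b⟩)
    (fun b c => Subtype.ext (rawD_add f G b.1 c.1))

lemma famD_famD (k : ℕ) (b : gFam (tk f k) G) : famD f G (k + 1) (famD f G k b) = 0 :=
  Subtype.ext (rawD_rawD f G b.1)

lemma famD_nat {G' : CohTop.Ab S} (φ : G ⟶ G') (k : ℕ) (b : gFam (tk f k) G) :
    famD f G' k (gFamMap (tk f k) φ b) = gFamMap (tk f (k + 1)) φ (famD f G k b) :=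
  Subtype.ext (rawD_smap f G φ b.1)

theorem eq_zero_of_famD (hsurj : Function.Surjective f) (b : gFam (tk f 0) G)
    (h : famD f G 0 b = 0) : b = 0 := by
  refine Subtype.ext (funext fun z => ?_)
  obtain ⟨x, hx⟩ := hsurj z.1.1
  exact congrFun (CechFin.eq_zero_of_D (⟨x, hx⟩ : Fb f z.1.1) (part f G b.1 z.1.1)
    (funext fun w => congrFun (congrArg Subtype.val h) (mk f z.1.1 w))) (vals f z)

/-- The structure maps are local homeomorphisms. -/
theorem isLocalHomeomorph_tk (hf : IsLocalHomeomorph f) (k : ℕ) : IsLocalHomeomorph (tk f k) := by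
  classical
  rw [isLocalHomeomorph_iff_isOpenEmbedding_restrict]
  intro z
  choose U hU hUe using fun i => isLocalHomeomorph_iff_isOpenEmbedding_restrict.1 hf (z.1.2 i)
  choose O hO hOo hzO using fun i => mem_nhds_iff.1 (hU i)
  let W : Set (Zk f k) := ⋂ i, (fun w => w.1.2 i) ⁻¹' O i
  have hWo : IsOpen W := isOpen_iInter_of_finite fun i =>
    (hOo i).preimage ((continuous_apply i).comp (continuous_snd.comp continuous_subtype_val))
  refine ⟨W, hWo.mem_nhds (Set.mem_iInter.2 fun i => hzO i), ?_⟩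
  have hfe : ∀ i, Topology.IsOpenEmbedding ((O i).restrict f) := fun i =>
    (hUe i).comp (Topology.IsOpenEmbedding.inclusion (hO i)
      ((hOo i).preimage continuous_subtype_val))
  let D : Set S := ⋂ i, Set.range ((O i).restrict f)
  have hDo : IsOpen D := isOpen_iInter_of_finite fun i => (hfe i).isOpen_range
  refine .of_continuous_injective_isOpenMap (Continuous.comp (tk f k).hom.continuous continuous_subtype_val) ?_ ?_
  · rintro ⟨a, ha⟩ ⟨b, hb⟩ (h : a.1.1 = b.1.1)
    refine Subtype.ext (Subtype.ext (Prod.ext h (funext fun i => ?_)))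
    have := (hfe i).injective (a₁ := ⟨a.1.2 i, Set.mem_iInter.1 ha i⟩) (a₂ := ⟨b.1.2 i, Set.mem_iInter.1 hb i⟩)
      ((a.2 i).trans (h.trans (b.2 i).symm))
    exact congrArg Subtype.val this
  · have hpre : ∀ y : D, ∀ i, ∃ x : O i, f x.1 = y.1 := fun y i => by
      obtain ⟨x, hx⟩ := Set.mem_iInter.1 y.2 i
      exact ⟨x, hx⟩
    choose q hq using hpre
    have hqc : ∀ i, Continuous fun y => q y i := fun i => by
      refine (hfe i).isInducing.continuous_iff.2 ?_
      exact (continuous_subtype_val (p := fun y => y ∈ D)).congr fun y => (hq y i).symm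
    let σ : D → W := fun y => ⟨⟨(y.1, fun i => (q y i).1), fun i => hq y i⟩,
      Set.mem_iInter.2 fun i => (q y i).2⟩
    have hσ : Continuous σ := by
      refine (Continuous.subtype_mk ?_ _).subtype_mk _
      exact continuous_subtype_val.prodMk (continuous_pi fun i => continuous_subtype_val.comp (hqc i))
    intro B hB
    refine isOpen_iff_mem_nhds.2 ?_
    rintro _ ⟨⟨a, ha⟩, haB, rfl⟩
    have haD : a.1.1 ∈ D := Set.mem_iInter.2 fun i => ⟨⟨a.1.2 i, Set.mem_iInter.1 ha i⟩, a.2 i⟩
    have hσa : σ ⟨a.1.1, haD⟩ = ⟨a, ha⟩ := by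
      refine Subtype.ext (Subtype.ext (Prod.ext rfl (funext fun i => ?_)))
      exact congrArg Subtype.val ((hfe i).injective (a₁ := q ⟨a.1.1, haD⟩ i)
        (a₂ := ⟨a.1.2 i, Set.mem_iInter.1 ha i⟩) ((hq ⟨a.1.1, haD⟩ i).trans (a.2 i).symm))
    refine Filter.mem_of_superset ((hDo.isOpenMap_subtype_val _ (hB.preimage hσ)).mem_nhds
      ⟨⟨a.1.1, haD⟩, by show σ _ ∈ B; rwa [hσa], rfl⟩) ?_
    rintro _ ⟨y, hy, rfl⟩
    exact ⟨σ y, hy, rfl⟩

theorem exists_famD_eq_C0 (hf : IsLocalHomeomorph f) (hsurj : Function.Surjective f)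
    (M : CohTop.Ab S) (k : ℕ) (b : gFam (tk f (k + 1)) (C0 M)) (h : famD f (C0 M) (k + 1) b = 0) :
    ∃ c, famD f (C0 M) k c = b := by
  classical
  choose σ hσ using hsurj
  let π : ∀ {m : ℕ}, Raw f (C0 M) m → Raw f M m := fun {m} e z => (ev M (tk f m z)).hom (e z)
  have hπ : ∀ {m : ℕ} (e : Raw f (C0 M) m), rawD f M (π e) = π (rawD f (C0 M) e) := fun {m} e => by
    funext z
    simp only [π, rawD, CechFin.D, part]
    rw [map_sum]
    exact Finset.sum_congr rfl fun i _ => (map_zsmul _ _ _).symm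
  let m : Raw f M k := fun z => π b.1 (mk f z.1.1 (Fin.cons ⟨σ z.1.1, hσ _⟩ (vals f z)))
  obtain ⟨c, hc, hcm⟩ := exists_fam_ev (tk f k) (isLocalHomeomorph_tk f hf k) M ⊤ (fun z _ => m z)
  let cc : gFam (tk f k) (C0 M) := ⟨fun z => c z trivial, hc⟩
  refine ⟨cc, Subtype.ext ?_⟩
  have e : ∀ z, (ev M (tk f (k + 1) z)).hom (rawD f (C0 M) cc.1 z) =
      (ev M (tk f (k + 1) z)).hom (b.1 z) := by
    intro z
    refine (congrFun (hπ cc.1) z).symm.trans ?_
    have hm : π cc.1 = m := funext fun w => hcm w trivial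
    rw [hm]
    have hb0 : ∀ w, π (rawD f (C0 M) b.1) w = 0 := fun w => by
      show (ev M _).hom (rawD f (C0 M) b.1 w) = 0
      rw [show rawD f (C0 M) b.1 w = 0 from congrFun (congrArg Subtype.val h) w]
      exact map_zero _
    have hcoc : CechFin.D (part f M (π b.1) z.1.1) = 0 := funext fun x =>
      (congrFun (hπ b.1) (mk f z.1.1 x)).trans (hb0 _)
    have := CechFin.D_cons (part f M (π b.1) z.1.1) ⟨σ z.1.1, hσ _⟩ (vals f z)
    rw [hcoc] at this
    exact (sub_eq_zero.1 this.symm).symm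
  exact funext fun z => congrFun (congrFun (fam_ev_ext (tk f (k + 1)) (isLocalHomeomorph_tk f hf (k + 1)) M ⊤
    (fun z _ => rawD f (C0 M) cc.1 z) (fun z _ => b.1 z) (famD f (C0 M) k cc).2 b.2
    (fun z _ => e z)) z) trivial

theorem exists_famD_eq (hf : IsLocalHomeomorph f) (hsurj : Function.Surjective f) [Injective G]
    (k : ℕ) (b : gFam (tk f (k + 1)) G) (h : famD f G (k + 1) b = 0) : ∃ c, famD f G k c = b := by
  let γ : G ⟶ C0 G := Godement.toGod.app G
  haveI : Mono γ := Godement.mono_toGod G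
  let r : C0 G ⟶ G := Injective.factorThru (𝟙 G) γ
  have hr : γ ≫ r = 𝟙 G := Injective.comp_factorThru _ _
  obtain ⟨c, hc⟩ := exists_famD_eq_C0 f hf hsurj G k (gFamMap _ γ b)
    (by rw [famD_nat, h, map_zero])
  refine ⟨gFamMap _ r c, ?_⟩
  rw [famD_nat, hc]
  refine Subtype.ext (funext fun z => ?_)
  have := congrArg (fun φ => ((stk (tk f (k + 1) z)).map φ).hom (b.1 z)) hr
  simp only [Functor.map_comp] at this
  refine Eq.trans ?_ (this.trans ?_)
  · rfl
  · exact ConcreteCategory.congr_hom ((stk (tk f (k + 1) z)).map_id G) (b.1 z)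

end Groth.Agent.H15Site.Etale
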