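import Groth.Agent.H15Site.Etale.Cech
import Groth.Agent.H15Site.DescTop.TopRes
import Groth.Agent.H15Site.DoubleSS.Engine
import Mathlib.Algebra.Homology.Embedding.Basic
import Mathlib.Algebra.Homology.Embedding.Extend
import Mathlib.CategoryTheory.Limits.Shapes.WidePullbacks

/-!
# The descent spectral sequence of a surjective local homeomorphism
-/

set_option autoImplicit false
set_option linter.style.haveILetI false
set_option linter.unusedSectionVars false
set_option backward.isDefEq.respectTransparency false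

universe u

open CategoryTheory CategoryTheory.Limits Opposite TopologicalSpace

namespace Groth.Agent.H15Site.Etale

open Groth.Agent.H15Site.DescTop Groth.Agent.H15Site.PBC

attribute [local instance 10000] SiteInst.hasSheafifySite SiteInst.hasWeakSheafifySite
  SiteInst.hasExtSite SiteInst.enoughInjSite

variable {X S : TopCat.{u}} (f : X ⟶ S)

/-- Germ families as a functor. -/
noncomputable def FamF (k : ℕ) : CohTop.Ab S ⥤ AddCommGrpCat.{u} where
  obj G := AddCommGrpCat.of (gFam (tk f k) G)
  map φ := AddCommGrpCat.ofHom (gFamMap (tk f k) φ)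
  map_id G := by
    refine AddCommGrpCat.hom_ext (AddMonoidHom.ext fun b => ?_)
    exact Subtype.ext (funext fun z => ConcreteCategory.congr_hom ((stk (tk f k z)).map_id G) (b.1 z))
  map_comp φ ψ := by
    refine AddCommGrpCat.hom_ext (AddMonoidHom.ext fun b => ?_)
    exact Subtype.ext (funext fun z => ConcreteCategory.congr_hom ((stk (tk f k z)).map_comp φ ψ) (b.1 z))

/-- Germ families are sections of inverse images. -/
noncomputable def famIso (k : ℕ) : CohTop.pull (tk f k) ⋙ PullCoh.Γ (Zk f k) ≅ FamF f k :=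
  NatIso.ofComponents (fun G => (famEquiv (tk f k) G).toAddCommGrpIso)
    (fun φ => by ext u; exact famEquiv_nat (tk f k) φ u)

instance preservesZero_FamF (k : ℕ) : (FamF f k).Additive :=
  haveI : (CohTop.pull (tk f k)).Additive :=
    haveI := ClosedPushAb.pull_preservesFiniteLimits (tk f k)
    Functor.additive_of_preserves_binary_products _
  Functor.additive_of_iso (famIso f k)

/-- The differential as a natural transformation. -/
noncomputable def dNat (k : ℕ) : FamF f k ⟶ FamF f (k + 1) where
  app G := AddCommGrpCat.ofHom (famD f G k)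
  naturality G G' φ := by
    ext b
    exact famD_nat f G φ k b

lemma dNat_dNat (k : ℕ) : dNat f k ≫ dNat f (k + 1) = 0 := by
  ext G b
  exact famD_famD f G k b

variable (F : CohTop.Ab S)

/-- The chosen resolution. -/
noncomputable abbrev Res : CochainComplex (CohTop.Ab S) ℤ := (injectiveResolution F).cochainComplex

/-- The columns. -/
noncomputable def Kc : CochainComplex (CochainComplex AddCommGrpCat.{u} ℤ) ℕ :=
  CochainComplex.of (fun k => ((FamF f k).mapHomologicalComplex (ComplexShape.up ℤ)).obj (Res F))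
    (fun k => (NatTrans.mapHomologicalComplex (dNat f k) (ComplexShape.up ℤ)).app (Res F))
    (fun k => by
      refine HomologicalComplex.hom_ext _ _ fun q => ?_
      exact congr_app (dNat_dNat f k) ((Res F).X q))

/-- The double complex. -/
noncomputable def dblC : DoubleSS.Dbl.{u} := (Kc f F).extend (ComplexShape.embeddingUpIntGE (-1))

variable (hf : IsLocalHomeomorph f)

/-- The columns of the double complex. -/
noncomputable def colIso (k : ℕ) (p : ℤ) (hk : (-1 : ℤ) + k = p) :
    (dblC f F).X p ≅ ((FamF f k).mapHomologicalComplex (ComplexShape.up ℤ)).obj (Res F) :=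
  (Kc f F).extendXIso (ComplexShape.embeddingUpIntGE (-1)) (show (-1 : ℤ) + k = p from hk) ≪≫
    eqToIso rfl

lemma d_f (k : ℕ) (p p' : ℤ) (hk : (-1 : ℤ) + k = p) (hk' : (-1 : ℤ) + (k + 1 : ℕ) = p') (q : ℤ)
    (x : ((dblC f F).X p).X q) :
    ((colIso f F (k + 1) p' hk').hom.f q).hom ((((dblC f F).d p p').f q).hom x) =
      famD f ((Res F).X q) k (((colIso f F k p hk).hom.f q).hom x) := by
  have h : (dblC f F).d p p' ≫ (colIso f F (k + 1) p' hk').hom = (colIso f F k p hk).hom ≫
      (NatTrans.mapHomologicalComplex (dNat f k) (ComplexShape.up ℤ)).app (Res F) := by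
    show ((Kc f F).extend (ComplexShape.embeddingUpIntGE (-1))).d p p' ≫ _ = _
    rw [HomologicalComplex.extend_d_eq _ _ (show (ComplexShape.embeddingUpIntGE (-1)).f k = p from hk)
      (show (ComplexShape.embeddingUpIntGE (-1)).f (k + 1) = p' from hk')]
    simp only [colIso, eqToIso_refl, Iso.trans_refl, Category.assoc, Iso.inv_hom_id, Category.comp_id]
    congr 1
    simp [Kc, CochainComplex.of_d]
  exact ConcreteCategory.congr_hom (congrArg (fun (φ : (dblC f F).X p ⟶ _) => φ.f q) h) x

include hf in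
theorem nonempty_col_homology (k : ℕ) (p : ℤ) (hk : (-1 : ℤ) + k = p) (q : ℕ) :
    Nonempty (((dblC f F).X p).homology (q : ℤ) ≅
      AddCommGrpCat.of (CohTop.H ((CohTop.pull (tk f k)).obj F) q)) := by
  let t := tk f k
  haveI := ClosedPushAb.pull_preservesFiniteLimits t
  haveI : (CohTop.pull t).Additive := Functor.additive_of_preserves_binary_products _
  haveI : (CohTop.pull t).IsLeftAdjoint :=
    (TopCat.Sheaf.pullbackPushforwardAdjunction AddCommGrpCat.{u} t).isLeftAdjoint
  let R := injectiveResolution F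
  let L := ((CohTop.pull t).mapHomologicalComplex (ComplexShape.up ℤ)).obj R.cochainComplex
  let ι : (CochainComplex.singleFunctor (CohTop.Ab (Zk f k)) 0).obj ((CohTop.pull t).obj F) ⟶ L :=
    (HomologicalComplex.singleMapHomologicalComplex (CohTop.pull t) (ComplexShape.up ℤ) 0).inv.app F ≫
      ((CohTop.pull t).mapHomologicalComplex (ComplexShape.up ℤ)).map R.ι'
  haveI : QuasiIso (((CohTop.pull t).mapHomologicalComplex (ComplexShape.up ℤ)).map R.ι') :=
    inferInstance
  haveI : QuasiIso ι := quasiIso_comp _ _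
  haveI : CochainComplex.IsStrictlyGE L 0 := by
    rw [CochainComplex.isStrictlyGE_iff]
    exact fun k hk => (CohTop.pull t).map_isZero (CochainComplex.isZero_of_isStrictlyGE R.cochainComplex 0 k hk)
  obtain ⟨e⟩ := nonempty_H_iso_of_flasque_res _ L
    (fun j => flasque_pull_injective t (isLocalHomeomorph_tk f hf k) (R.cochainComplex.X j)) ι q
  let e₂ : ΓCx L ≅ ((FamF f k).mapHomologicalComplex (ComplexShape.up ℤ)).obj (Res F) :=
    HomologicalComplex.Hom.isoOfComponents (fun j => (famIso f k).app (R.cochainComplex.X j))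
      (fun a b _ => ((famIso f k).hom.naturality (R.cochainComplex.d a b)).symm)
  exact ⟨HomologicalComplex.homologyMapIso (colIso f F k p hk ≪≫ e₂.symm) (q : ℤ) ≪≫ e⟩

/-- Transport of cohomology of inverse images along isomorphisms over `S`. -/
theorem nonempty_H_iso_of_over {T T' : TopCat.{u}} (p : T ⟶ S) (p' : T' ⟶ S) (e : T ≅ T')
    (he : e.hom ≫ p' = p) (q : ℕ) :
    Nonempty (AddCommGrpCat.of (CohTop.H ((CohTop.pull p).obj F) q) ≅
      AddCommGrpCat.of (CohTop.H ((CohTop.pull p').obj F) q)) := by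
  obtain ⟨e₁⟩ := PullCoh.nonempty_A_iso F q (Over.mk p)
  obtain ⟨e₂⟩ := PullCoh.nonempty_A_iso F q (Over.mk p')
  let o : Over.mk p ≅ Over.mk p' := Over.isoMk e he
  exact ⟨e₁.symm ≪≫ ((PullCoh.A F q).mapIso o.op).symm ≪≫ e₂⟩

/-- Inverse image along the identity. -/
noncomputable def pullIdIso (S : TopCat.{u}) : CohTop.pull (𝟙 S) ≅ 𝟭 (CohTop.Ab S) :=
  Adjunction.leftAdjointUniq (TopCat.Sheaf.pullbackPushforwardAdjunction AddCommGrpCat.{u} (𝟙 S))
    (Adjunction.id.ofNatIsoRight (Iso.refl _))

/-- The zero-fold fibre product is the base. -/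
noncomputable def zeroIso : Zk f 0 ≅ S where
  hom := tk f 0
  inv := TopCat.ofHom ⟨fun s => ⟨(s, fun i => i.elim0), fun i => i.elim0⟩, by fun_prop⟩
  hom_inv_id := by
    refine TopCat.hom_ext (ContinuousMap.ext fun z => ?_)
    exact Subtype.ext (Prod.ext rfl (funext fun i => i.elim0))
  inv_hom_id := rfl

/-- Fibre powers as wide pullbacks. -/
noncomputable def powIso (n : ℕ) :
    Zk f (n + 1) ≅ widePullback S (fun _ : Fin (n + 1) => X) (fun _ => f) where
  hom := WidePullback.lift (tk f (n + 1))
    (fun i => TopCat.ofHom ⟨fun z => z.1.2 i,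
      (continuous_apply i).comp (continuous_snd.comp continuous_subtype_val)⟩)
    (fun i => by ext z; exact z.2 i)
  inv := TopCat.ofHom ⟨fun w => ⟨(WidePullback.base (fun _ : Fin (n + 1) => f) w,
      fun i => WidePullback.π (fun _ : Fin (n + 1) => f) i w), fun i =>
        ConcreteCategory.congr_hom (WidePullback.π_arrow (fun _ : Fin (n + 1) => f) i) w⟩, by fun_prop⟩
  hom_inv_id := by
    refine TopCat.hom_ext (ContinuousMap.ext fun z => ?_)
    refine Subtype.ext (Prod.ext ?_ (funext fun i => ?_))
    · exact ConcreteCategory.congr_hom (WidePullback.lift_base _ _ _ _) z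
    · exact ConcreteCategory.congr_hom (WidePullback.lift_π _ _ _ _ i) z
  inv_hom_id := by
    refine WidePullback.hom_ext _ _ _ (fun i => ?_) ?_
    · rw [Category.assoc, WidePullback.lift_π, Category.id_comp]
      rfl
    · rw [Category.assoc, WidePullback.lift_base, Category.id_comp]
      rfl

include hf in
/-- **Descent spectral sequence of a surjective local homeomorphism.** -/
theorem exists_descentSS (hsurj : Function.Surjective f) :
    ∃ (E : CohomologicalSpectralSequence AddCommGrpCat.{u} 1)
      (a : SpSeq.Abutment E (fun n : ℤ =>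
        if 0 ≤ n then AddCommGrpCat.of (CohTop.H F n.toNat) else AddCommGrpCat.of PUnit.{u + 1})),
      (∀ n, a.IsFinite n) ∧ SpSeq.IsBounded E ∧
      ∀ p q : ℤ, Nonempty ((E.page 1 le_rfl).X (p, q) ≅
        (if 0 ≤ p ∧ 0 ≤ q then
          AddCommGrpCat.of (CohTop.H ((CohTop.pull
            (WidePullback.base (fun _ : Fin (p.toNat + 1) => f) :
              widePullback S (fun _ : Fin (p.toNat + 1) => X) (fun _ => f) ⟶ S)).obj F) q.toNat)
         else AddCommGrpCat.of PUnit.{u + 1})) := by
  have hp : ∀ p, p < -1 → IsZero ((dblC f F).X p) := fun p hp =>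
    (Kc f F).isZero_extend_X _ p fun n hn => by
      change (-1 : ℤ) + n = p at hn
      omega
  have hidx : ∀ p : ℤ, -1 ≤ p → (-1 : ℤ) + ((p + 1).toNat : ℕ) = p := fun p hp => by omega
  have hq : ∀ p q, q < 0 → IsZero (((dblC f F).X p).X q) := by
    intro p q hq
    rcases Int.lt_or_le p (-1) with h | h
    · exact (HomologicalComplex.eval _ _ q).map_isZero (hp p h)
    · refine IsZero.of_iso ((FamF f _).map_isZero
        (CochainComplex.isZero_of_isStrictlyGE (Res F) 0 q hq))
        ((HomologicalComplex.eval _ _ q).mapIso (colIso f F _ p (hidx p h)))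
  have inj : ∀ (k : ℕ) (p : ℤ) (hk : (-1 : ℤ) + k = p) (q : ℤ),
      Function.Bijective ((colIso f F k p hk).hom.f q).hom := fun k p hk q =>
    ConcreteCategory.bijective_of_isIso ((colIso f F k p hk).hom.f q)
  refine DoubleSS.exists_spectralSequence (dblC f F) hp hq ?_ _ _ ?_ ?_ ?_
  · intro p q x hx
    rcases Int.lt_or_le p (-1) with h | h
    · exact ⟨0, (AddCommGrpCat.subsingleton_of_isZero
        ((HomologicalComplex.eval _ _ q).map_isZero (hp p h))).elim _ _⟩
    obtain ⟨k, rfl⟩ : ∃ k : ℕ, p = -1 + k := ⟨(p + 1).toNat, by omega⟩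
    have hx' := d_f f F k _ _ rfl (show (-1 : ℤ) + (k + 1 : ℕ) = -1 + k + 1 by push_cast; ring) q x
    rw [hx, map_zero] at hx'
    rcases k with _ | k
    · refine ⟨0, ?_⟩
      have := eq_zero_of_famD f ((Res F).X q) hsurj _ hx'.symm
      rw [map_zero]
      exact ((inj 0 _ rfl q).1 (this.trans (map_zero _).symm)).symm
    · haveI : Injective ((Res F).X q) := inferInstance
      obtain ⟨c, hc⟩ := exists_famD_eq f ((Res F).X q) hf hsurj k _ hx'.symm
      have hk : (-1 : ℤ) + k = -1 + (k + 1 : ℕ) - 1 := by push_cast; ring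
      obtain ⟨y, hy⟩ := (inj k _ hk q).2 c
      refine ⟨y, (inj (k + 1) _ rfl q).1 ?_⟩
      exact (d_f f F k _ _ hk rfl q y).trans ((congrArg _ hy).trans hc)
  · intro p q h1 h2
    obtain ⟨n, rfl⟩ := Int.eq_ofNat_of_zero_le h1
    obtain ⟨m, rfl⟩ := Int.eq_ofNat_of_zero_le h2
    obtain ⟨e⟩ := nonempty_col_homology f F hf (n + 1) n (by push_cast; ring) m
    obtain ⟨e'⟩ := nonempty_H_iso_of_over F (tk f (n + 1)) (WidePullback.base (fun _ : Fin (n + 1) => f))
      (powIso f n) (by simp [powIso]) m
    rw [if_pos ⟨h1, h2⟩]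
    exact ⟨e ≪≫ e'⟩
  · intro p q h
    rw [if_neg h]
    exact AddCommGrpCat.isZero_of_subsingleton _
  · intro n
    rcases Int.lt_or_le n 0 with hn | hn
    · rw [if_neg (not_le.2 hn)]
      exact ⟨IsZero.iso (HomologicalComplex.ExactAt.isZero_homology
        (ShortComplex.exact_of_isZero_X₂ _ (hq _ n hn))) (AddCommGrpCat.isZero_of_subsingleton _)⟩
    · obtain ⟨m, rfl⟩ := Int.eq_ofNat_of_zero_le hn
      rw [if_pos hn]
      obtain ⟨e⟩ := nonempty_col_homology f F hf 0 (-1) (by simp) m
      obtain ⟨e'⟩ := nonempty_H_iso_of_over F (tk f 0) (𝟙 S) (zeroIso f) (by simp [zeroIso]) m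
      exact ⟨e ≪≫ e' ≪≫ (Sheaf.functorH (Opens.grothendieckTopology S) m).mapIso ((pullIdIso S).app F)⟩

end Groth.Agent.H15Site.Etale
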