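import Groth.Agent.H15Site.Etale.GermFam
import Groth.Agent.H15Site.Godement
import Mathlib.Topology.IsLocalHomeomorph

/-!
# Inverse images of Godement and injective sheaves along local homeomorphisms
-/

set_option autoImplicit false
set_option linter.style.haveILetI false
set_option linter.unusedSectionVars false
set_option backward.isDefEq.respectTransparency false

universe u

open CategoryTheory CategoryTheory.Limits Opposite TopologicalSpace

namespace Groth.Agent.H15Site.Etale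

open Groth.Agent.H15Site.DescTop Groth.Agent.H15Site.PBC Groth.Agent.H15Site.Godement

attribute [local instance 10000] SiteInst.hasSheafifySite SiteInst.hasWeakSheafifySite
  SiteInst.hasExtSite SiteInst.enoughInjSite

variable {Z S : TopCat.{u}} (t : Z ⟶ S) (ht : IsLocalHomeomorph t) (M : CohTop.Ab S)

/-- The Godement sheaf. -/
noncomputable abbrev C0 : CohTop.Ab S := (god (X := S)).obj M

/-- Evaluation of a germ of the Godement sheaf. -/
noncomputable def ev (x : S) : CohTop.stalk (C0 M) x ⟶ CohTop.stalk M x :=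
  colimit.desc _ (Cocone.mk (CohTop.stalk M x)
    { app := fun U => AddCommGrpCat.ofHom
        { toFun := fun s => (s : ∀ y : {y : S // y ∈ (((OpenNhds.inclusion x).obj U.unop : Opens S) : Set S)},
            CohTop.stalk M y.1) ⟨x, U.unop.2⟩
          map_zero' := rfl
          map_add' := fun _ _ => rfl }
      naturality := fun _ _ _ => rfl })

lemma ev_gm {U : Opens S} (x : S) (hx : x ∈ U) (s : (C0 M).obj.obj (op U)) :
    (ev M x).hom (gm (C0 M) x hx s) = s ⟨x, hx⟩ :=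
  ConcreteCategory.congr_hom (colimit.ι_desc
    (F := (OpenNhds.inclusion x).op ⋙ (C0 M).obj) _ (op (⟨U, hx⟩ : OpenNhds x))) s

include ht in
/-- A family of values determines a germ family of the Godement sheaf. -/
theorem exists_fam_ev (W : Opens Z) (m : ∀ z : Z, z ∈ W → CohTop.stalk M (t z)) :
    ∃ b, IsFam t (C0 M) W b ∧ ∀ z (hz : z ∈ W), (ev M (t z)).hom (b z hz) = m z hz := by
  classical
  have hloc : ∀ z (_ : z ∈ W), ∃ (W' : Opens Z) (V : Opens S) (_ : W' ≤ W) (_ : z ∈ W')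
      (s : (C0 M).obj.obj (op V)), ∀ (y : Z) (hy : y ∈ W), y ∈ W' → ∃ hty : t y ∈ V,
        s ⟨t y, hty⟩ = m y hy := by
    intro z hz
    obtain ⟨e, hez, hte⟩ := ht z
    let W' : Opens Z := ⟨e.source, e.open_source⟩ ⊓ W
    let V : Opens S := ⟨t '' (W' : Set Z), ht.isOpenMap _ W'.isOpen⟩
    have hinj : ∀ a b : Z, a ∈ W' → b ∈ W' → t a = t b → a = b := fun a b ha hb h => by
      refine e.injOn ha.1 hb.1 ?_
      rwa [← hte]
    have hsec : ∀ y : {y : S // y ∈ (V : Set S)}, ∃ c : CohTop.stalk M y.1, ∀ (a : Z) (ha : a ∈ W')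
        (h : t a = y.1), c = h ▸ m a ha.2 := by
      rintro ⟨y, a, ha, rfl⟩
      refine ⟨m a ha.2, fun b hb h => ?_⟩
      obtain rfl := hinj b a hb ha h
      rfl
    choose s hs using hsec
    refine ⟨W', V, inf_le_right, ⟨hez, hz⟩, s, fun y hy hyW => ⟨⟨y, hyW, rfl⟩, ?_⟩⟩
    exact hs ⟨t y, y, hyW, rfl⟩ y hyW rfl
  choose W' V hle hmem s hs using hloc
  have hty : ∀ z hz, t z ∈ V z hz := fun z hz => (hs z hz z hz (hmem z hz)).1
  let b : ∀ z : Z, z ∈ W → CohTop.stalk (C0 M) (t z) := fun z hz => gm (C0 M) (t z) (hty z hz) (s z hz)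
  refine ⟨b, fun z hz => ?_, fun z hz => ?_⟩
  · refine ⟨V z hz, W' z hz, hmem z hz, s z hz, fun y hy hyW => ?_⟩
    obtain ⟨h1, e1⟩ := hs z hz y hy hyW
    refine ⟨h1, ?_⟩
    let O : Opens Z := W' z hz ⊓ W' y hy
    let V' : Opens S := ⟨t '' (O : Set Z), ht.isOpenMap _ O.isOpen⟩
    have hV1 : V' ≤ V z hz := by
      rintro _ ⟨a, ha, rfl⟩
      exact (hs z hz a (hle z hz ha.1) ha.1).1
    have hV2 : V' ≤ V y hy := by
      rintro _ ⟨a, ha, rfl⟩
      exact (hs y hy a (hle z hz ha.1) ha.2).1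
    have hyV : t y ∈ V' := ⟨y, ⟨hyW, hmem y hy⟩, rfl⟩
    refine (gm_res (C0 M) hV1 (t y) hyV (s z hz)).symm.trans
      (Eq.trans (congrArg _ ?_) (gm_res (C0 M) hV2 (t y) hyV (s y hy)))
    suffices key : ∀ (v : S) (hv : v ∈ V'), s z hz ⟨v, hV1 hv⟩ = s y hy ⟨v, hV2 hv⟩ from
      funext fun x => key x.1 x.2
    rintro _ ⟨a, ha, rfl⟩
    exact ((hs z hz a (hle z hz ha.1) ha.1).2).trans ((hs y hy a (hle z hz ha.1) ha.2).2).symm
  · exact (ev_gm M _ _ _).trans ((hs z hz z hz (hmem z hz)).2)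

include ht in
/-- A germ family of the Godement sheaf is determined by its values. -/
theorem fam_ev_ext (W : Opens Z) (b b' : ∀ z : Z, z ∈ W → CohTop.stalk (C0 M) (t z))
    (hb : IsFam t (C0 M) W b) (hb' : IsFam t (C0 M) W b')
    (h : ∀ z (hz : z ∈ W), (ev M (t z)).hom (b z hz) = (ev M (t z)).hom (b' z hz)) : b = b' := by
  funext z hz
  obtain ⟨V, W', hW', s, hs⟩ := hb z hz
  obtain ⟨V₂, W₂, hW₂, s₂, hs₂⟩ := hb' z hz
  let O : Opens Z := (W' ⊓ W₂) ⊓ W
  let V' : Opens S := ⟨t '' (O : Set Z), ht.isOpenMap _ O.isOpen⟩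
  have hV1 : V' ≤ V := by
    rintro _ ⟨a, ha, rfl⟩
    exact (hs a ha.2 ha.1.1).1
  have hV2 : V' ≤ V₂ := by
    rintro _ ⟨a, ha, rfl⟩
    exact (hs₂ a ha.2 ha.1.2).1
  have hzV : t z ∈ V' := ⟨z, ⟨⟨hW', hW₂⟩, hz⟩, rfl⟩
  obtain ⟨h1, e1⟩ := hs z hz hW'
  obtain ⟨h2, e2⟩ := hs₂ z hz hW₂
  rw [← e1, ← e2]
  refine (gm_res (C0 M) hV1 (t z) hzV s).symm.trans
    (Eq.trans (congrArg _ ?_) (gm_res (C0 M) hV2 (t z) hzV s₂))
  suffices key : ∀ (v : S) (hv : v ∈ V'), s ⟨v, hV1 hv⟩ = s₂ ⟨v, hV2 hv⟩ from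
    funext fun x => key x.1 x.2
  rintro _ ⟨a, ha, rfl⟩
  obtain ⟨h3, e3⟩ := hs a ha.2 ha.1.1
  obtain ⟨h4, e4⟩ := hs₂ a ha.2 ha.1.2
  show s ⟨t a, h3⟩ = s₂ ⟨t a, h4⟩
  rw [← ev_gm M (t a) h3 s, ← ev_gm M (t a) h4 s₂, e3, e4]
  exact h a ha.2

include ht in
theorem flasque_pull_C0 : H10Coh.Flasque ((CohTop.pull t).obj (C0 M)) := by
  classical
  intro U V h u
  let m : ∀ z : Z, z ∈ U → CohTop.stalk M (t z) := fun z _ =>
    if hz : z ∈ V then (ev M (t z)).hom (secFam t (C0 M) V u z hz) else 0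
  obtain ⟨b, hb, hbm⟩ := exists_fam_ev t ht M U m
  obtain ⟨u', hu'⟩ := exists_secFam_eq t (C0 M) U b hb
  refine ⟨u', secFam_injective t (C0 M) V ?_⟩
  refine fam_ev_ext t ht M V _ _ (isFam_secFam t _ V _) (isFam_secFam t _ V _) fun z hz => ?_
  have e : secFam t (C0 M) V (((CohTop.pull t).obj (C0 M)).obj.map (homOfLE h).op u') z hz =
      secFam t (C0 M) U u' z (h hz) :=
    (secFam_eq_iff t _ V _ z hz _).2
      ((gm_res _ h z hz u').trans ((secFam_eq_iff t _ U u' z (h hz) _).1 rfl))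
  rw [e, hu', hbm]
  exact dif_pos hz

include ht in
theorem flasque_pull_injective (I : CohTop.Ab S) [Injective I] :
    H10Coh.Flasque ((CohTop.pull t).obj I) := by
  haveI := mono_toGod I
  obtain ⟨r, hr⟩ : ∃ r : C0 I ⟶ I, toGod.app I ≫ r = 𝟙 _ :=
    ⟨Injective.factorThru (𝟙 I) (toGod.app I), Injective.comp_factorThru _ _⟩
  have hid : (CohTop.pull t).map (toGod.app I) ≫ (CohTop.pull t).map r = 𝟙 _ := by
    rw [← Functor.map_comp, hr, CategoryTheory.Functor.map_id]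
  intro U V h u
  obtain ⟨v, hv⟩ := flasque_pull_C0 t ht I h (((CohTop.pull t).map (toGod.app I)).hom.app (op V) u)
  refine ⟨((CohTop.pull t).map r).hom.app (op U) v, ?_⟩
  refine (ConcreteCategory.congr_hom (((CohTop.pull t).map r).hom.naturality (homOfLE h).op) v).symm.trans ?_
  refine (congrArg (((CohTop.pull t).map r).hom.app (op V)) hv).trans ?_
  exact ConcreteCategory.congr_hom (congr_app (congrArg (fun f => f.hom) hid) (op V)) u

end Groth.Agent.H15Site.Etale
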